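import Groth.Prelude.Def_FlatCA
import Mathlib.RingTheory.Ideal.MinimalPrime.Localization
import Mathlib.RingTheory.Ideal.AssociatedPrime.Basic
import Mathlib.Algebra.Module.LocalizedModule.Basic

/-! Basic facts about weakly associated primes. -/

namespace Groth.Agent.WeakAss

universe u v w

variable {R : Type u} [CommRing R] {M : Type v} [AddCommGroup M] [Module R M]

/-- Annihilator of an element. -/
abbrev annEl (R : Type u) [CommRing R] {M : Type v} [AddCommGroup M] [Module R M] (m : M) : Ideal R :=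
  (Submodule.span R {m}).annihilator

theorem mem_annEl {m : M} {r : R} : r ∈ annEl R m ↔ r • m = 0 := Submodule.mem_annihilator_span_singleton m r

theorem mem_weakAss_iff {p : Ideal R} :
    p ∈ FlatCA.weakAss R M ↔ ∃ m : M, p ∈ (annEl R m).minimalPrimes := Iff.rfl

theorem mem_ass_iff {p : Ideal R} :
    p ∈ FlatCA.ass R M ↔ p.IsPrime ∧ ∃ m : M, p = annEl R m := Iff.rfl

theorem ass_subset_weakAss : FlatCA.ass R M ⊆ FlatCA.weakAss R M := by
  rintro p ⟨hp, m, rfl⟩
  exact ⟨m, ⟨hp, le_rfl⟩, fun q hq _ => hq.2⟩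

/-- For a prime minimal over `I`, some multiple outside the prime of a power of each element is in `I`. -/
theorem exists_mul_pow_mem {I p : Ideal R} (hp : p ∈ I.minimalPrimes) {x : R} (hx : x ∈ p) :
    ∃ s ∉ p, ∃ n : ℕ, s * x ^ n ∈ I := by
  haveI := hp.1.1
  by_contra hne
  push Not at hne
  let T : Submonoid R := p.primeCompl ⊔ Submonoid.powers x
  have hd : Disjoint (I : Set R) (T : Set R) := by
    rw [Set.disjoint_right]
    intro y hy hyI
    obtain ⟨s, hs, _, ⟨n, rfl⟩, rfl⟩ := Submonoid.mem_sup.1 hy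
    exact hne s hs n hyI
  obtain ⟨q, hq, hIq, hqd⟩ := Ideal.exists_le_prime_disjoint I T hd
  have hqp : q ≤ p := fun y hy => by
    by_contra hyp
    exact Set.disjoint_left.1 hqd hy (Submonoid.mem_sup_left hyp)
  have hxq : x ∈ q := hp.2 ⟨hq, hIq⟩ hqp hx
  exact Set.disjoint_left.1 hqd hxq (Submonoid.mem_sup_right (Submonoid.mem_powers x))

theorem smul_ne_zero_of_notMem {p : Ideal R} {m : M} (hp : annEl R m ≤ p) {s : R} (hs : s ∉ p) : s • m ≠ 0 :=
  fun h => hs (hp (mem_annEl.2 h))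

theorem annEl_map_of_injective {N : Type w} [AddCommGroup N] [Module R N] (f : M →ₗ[R] N)
    (hf : Function.Injective f) (m : M) : annEl R (f m) = annEl R m := by
  ext r; rw [mem_annEl, mem_annEl, ← map_smul, map_eq_zero_iff f hf]

theorem weakAss_subset_of_injective {N : Type w} [AddCommGroup N] [Module R N] (f : M →ₗ[R] N)
    (hf : Function.Injective f) : FlatCA.weakAss R M ⊆ FlatCA.weakAss R N := by
  rintro p ⟨m, hm⟩
  exact mem_weakAss_iff.2 ⟨f m, by rw [annEl_map_of_injective f hf]; exact hm⟩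

theorem ass_subset_of_injective {N : Type w} [AddCommGroup N] [Module R N] (f : M →ₗ[R] N)
    (hf : Function.Injective f) : FlatCA.ass R M ⊆ FlatCA.ass R N := by
  rintro p ⟨hp, m, hm⟩
  exact mem_ass_iff.2 ⟨hp, f m, by rw [annEl_map_of_injective f hf]; exact hm⟩

theorem weakAss_subset_union_of_exact {M' : Type w} [AddCommGroup M'] [Module R M']
    {M'' : Type*} [AddCommGroup M''] [Module R M''] (f : M' →ₗ[R] M) (g : M →ₗ[R] M'')
    (hf : Function.Injective f) (hfg : Function.Exact f g) :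
    FlatCA.weakAss R M ⊆ FlatCA.weakAss R M' ∪ FlatCA.weakAss R M'' := by
  rintro p ⟨m, hm⟩
  haveI := hm.1.1
  have hle : annEl R m ≤ p := hm.1.2
  by_cases hg : annEl R (g m) ≤ p
  · refine Or.inr ⟨g m, ⟨hm.1.1, hg⟩, fun q hq hqp => hm.2 ⟨hq.1, fun r hr => hq.2 ?_⟩ hqp⟩
    exact mem_annEl.2 (by rw [← map_smul, mem_annEl.1 hr, map_zero])
  · obtain ⟨r, hr, hrp⟩ := Set.not_subset.1 hg
    have h0 : g (r • m) = 0 := by rw [map_smul]; exact mem_annEl.1 hr
    obtain ⟨m', hm'⟩ := (hfg _).1 h0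
    have he : annEl R m' = annEl R (r • m) := by rw [← annEl_map_of_injective f hf m', hm']
    refine Or.inl ⟨m', ⟨hm.1.1, fun s hs => ?_⟩, fun q hq hqp => hm.2 ⟨hq.1, fun s hs => hq.2 ?_⟩ hqp⟩
    · have hs' : s ∈ annEl R m' := hs
      rw [he, mem_annEl, smul_smul] at hs'
      exact ((hm.1.1.mem_or_mem (hle (mem_annEl.2 hs'))).resolve_right hrp)
    · have : s ∈ annEl R m' := by rw [he, mem_annEl, smul_comm, mem_annEl.1 hs, smul_zero]
      exact this

theorem weakAss_eq_empty_iff : FlatCA.weakAss R M = ∅ ↔ Subsingleton M := by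
  constructor
  · intro h
    refine ⟨fun a b => sub_eq_zero.1 ?_⟩
    by_contra hne
    have hI : annEl R (a - b) ≠ ⊤ := fun hc => hne (by
      simpa using mem_annEl.1 (hc ▸ Submodule.mem_top : (1 : R) ∈ annEl R (a - b)))
    obtain ⟨P, hP⟩ := Ideal.nonempty_minimalPrimes hI
    have : P ∈ FlatCA.weakAss R M := ⟨a - b, hP⟩
    rw [h] at this
    exact this
  · intro h
    refine Set.eq_empty_iff_forall_notMem.2 ?_
    rintro p ⟨m, hm⟩
    exact hm.1.1.ne_top (top_le_iff.1 (le_trans (fun r _ => mem_annEl.2 (Subsingleton.elim _ _)) hm.1.2))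

theorem biUnion_weakAss : ⋃ q ∈ FlatCA.weakAss R M, (q : Set R) = {f : R | ¬ IsSMulRegular M f} := by
  ext x
  simp only [Set.mem_iUnion, SetLike.mem_coe, exists_prop, Set.mem_ofPred_eq]
  constructor
  · rintro ⟨q, ⟨m, hm⟩, hx⟩ hreg
    obtain ⟨y, hy, hxy⟩ := Ideal.exists_mul_mem_of_mem_minimalPrimes hm hx
    refine hy (mem_annEl.2 (hreg ?_))
    show x • (y • m) = x • (0 : M)
    rw [smul_zero, smul_smul]
    exact mem_annEl.1 hxy
  · intro hx
    obtain ⟨a, b, hab, hne⟩ : ∃ a b : M, x • a = x • b ∧ a ≠ b := by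
      by_contra hc; push Not at hc
      exact hx fun a b h => hc a b h
    have hI : annEl R (a - b) ≠ ⊤ := fun hc => hne (sub_eq_zero.1 (by
      simpa using mem_annEl.1 (hc ▸ Submodule.mem_top : (1 : R) ∈ annEl R (a - b))))
    obtain ⟨P, hP⟩ := Ideal.nonempty_minimalPrimes hI
    exact ⟨P, ⟨a - b, hP⟩, hP.1.2 (mem_annEl.2 (by rw [smul_sub, hab, sub_self]))⟩

theorem exists_mul_pow_le {I p : Ideal R} (hp : p ∈ I.minimalPrimes) (hfg : p.FG) :
    ∃ s ∉ p, ∃ n : ℕ, ∀ a ∈ p ^ n, s * a ∈ I := by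
  haveI := hp.1.1
  let J : Ideal R :=
    { carrier := {x | ∃ t ∉ p, t * x ∈ I}
      add_mem' := by
        rintro x y ⟨t, ht, htx⟩ ⟨t', ht', hty⟩
        refine ⟨t * t', fun h => (hp.1.1.mem_or_mem h).elim ht ht', ?_⟩
        rw [mul_add]
        refine I.add_mem ?_ ?_
        · rw [mul_comm t t', mul_assoc]; exact I.mul_mem_left _ htx
        · rw [mul_assoc]; exact I.mul_mem_left _ hty
      zero_mem' := ⟨1, fun h => hp.1.1.ne_top ((Ideal.eq_top_iff_one p).2 h), by simp⟩
      smul_mem' := by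
        rintro r x ⟨t, ht, htx⟩
        exact ⟨t, ht, by rw [smul_eq_mul, mul_left_comm]; exact I.mul_mem_left _ htx⟩ }
  have hpJ : p ≤ J.radical := fun x hx => by
    obtain ⟨s, hs, n, hn⟩ := exists_mul_pow_mem hp hx
    exact ⟨n, s, hs, hn⟩
  obtain ⟨n, hn⟩ := Ideal.exists_pow_le_of_le_radical_of_fg hpJ hfg
  obtain ⟨G, hG⟩ := (Submodule.FG.pow hfg n : (p ^ n).FG)
  classical
  choose! t ht htx using fun x (hx : x ∈ J) => (hx : ∃ t ∉ p, t * x ∈ I)
  refine ⟨∏ g ∈ G, t g, fun hc => ?_, n, ?_⟩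
  · obtain ⟨g, hg, hgp⟩ := (Ideal.IsPrime.prod_mem_iff).1 hc
    exact ht g (hn (hG ▸ Submodule.subset_span hg)) hgp
  · intro a ha
    rw [← hG] at ha
    induction ha using Submodule.span_induction with
    | mem g hg =>
      obtain ⟨c, hc⟩ := Finset.dvd_prod_of_mem t hg
      rw [hc, mul_right_comm]
      exact I.mul_mem_right _ (htx g (hn (hG ▸ Submodule.subset_span hg)))
    | zero => simp
    | add x y _ _ hx hy => rw [mul_add]; exact I.add_mem hx hy
    | smul r x _ hx => rw [smul_eq_mul, mul_left_comm]; exact I.mul_mem_left _ hx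

theorem mem_ass_of_mem_weakAss_of_fg {p : Ideal R} (hfg : p.FG) (h : p ∈ FlatCA.weakAss R M) :
    p ∈ FlatCA.ass R M := by
  classical
  obtain ⟨m, hm⟩ := h
  haveI := hm.1.1
  have hle : annEl R m ≤ p := hm.1.2
  have hex : ∃ n : ℕ, ∃ s ∉ p, ∀ a ∈ p ^ n, s * a ∈ annEl R m := by
    obtain ⟨s, hs, n, hn⟩ := exists_mul_pow_le hm hfg
    exact ⟨n, s, hs, hn⟩
  obtain ⟨s, hs, hsn⟩ := Nat.find_spec hex
  obtain ⟨k, hk⟩ : ∃ k, Nat.find hex = k + 1 := by
    refine ⟨Nat.find hex - 1, (Nat.sub_add_cancel (Nat.one_le_iff_ne_zero.2 fun h0 => ?_)).symm⟩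
    rw [h0] at hsn
    exact hs (hle (by simpa using hsn 1 (by simp)))
  obtain ⟨G, hG⟩ := (Submodule.FG.pow hfg k : (p ^ k).FG)
  have : ∃ g ∈ G, annEl R ((s * g) • m) ≤ p := by
    by_contra hc
    push Not at hc
    choose! t ht htp using fun g hg => Set.not_subset.1 (hc g hg)
    refine Nat.find_min hex (by omega : k < Nat.find hex) ⟨(∏ g ∈ G, t g) * s, fun hc' => ?_, ?_⟩
    · rcases hm.1.1.mem_or_mem hc' with h' | h'
      · obtain ⟨g, hg, hgp⟩ := (Ideal.IsPrime.prod_mem_iff).1 h'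
        exact htp g hg hgp
      · exact hs h'
    · intro a ha
      rw [← hG] at ha
      induction ha using Submodule.span_induction with
      | mem g hg =>
        obtain ⟨c, hc⟩ := Finset.dvd_prod_of_mem t hg
        have h1 : t g * (s * g) ∈ annEl R m := by
          rw [mem_annEl, mul_smul]; exact mem_annEl.1 (ht g hg)
        rw [hc, show t g * c * s * g = c * (t g * (s * g)) by ring]
        exact (annEl R m).mul_mem_left _ h1
      | zero => simp
      | add x y _ _ hx hy => rw [mul_add]; exact (annEl R m).add_mem hx hy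
      | smul r x _ hx => rw [smul_eq_mul, mul_left_comm]; exact (annEl R m).mul_mem_left _ hx
  obtain ⟨g, hg, hgle⟩ := this
  refine ⟨hm.1.1, (s * g) • m, le_antisymm (fun x hx => mem_annEl.2 ?_) hgle⟩
  have hxg : g * x ∈ p ^ Nat.find hex := by
    rw [hk, pow_succ]
    exact Ideal.mul_mem_mul (hG ▸ Submodule.subset_span hg) hx
  rw [smul_smul, show x * (s * g) = s * (g * x) by ring]
  exact mem_annEl.1 (hsn _ hxg)

section Localization

variable (S : Submonoid R) {R' : Type*} [CommRing R'] [Algebra R R'] [IsLocalization S R']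

theorem annEl_restrict {N : Type*} [AddCommGroup N] [Module R' N] [Module R N] [IsScalarTower R R' N] (x : N) :
    annEl R x = (annEl R' x).comap (algebraMap R R') := by
  ext r; rw [Ideal.mem_comap, mem_annEl, mem_annEl, algebraMap_smul]

include S in
theorem weakAss_isLocalization {N : Type*} [AddCommGroup N] [Module R' N] [Module R N] [IsScalarTower R R' N] :
    FlatCA.weakAss R N = Ideal.comap (algebraMap R R') '' FlatCA.weakAss R' N := by
  ext p
  constructor
  · rintro ⟨x, hx⟩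
    have hx' : p ∈ (annEl R x).minimalPrimes := hx
    rw [annEl_restrict (R' := R'), IsLocalization.minimalPrimes_comap S R'] at hx'
    obtain ⟨q, hq, rfl⟩ := hx'
    exact ⟨q, ⟨x, hq⟩, rfl⟩
  · rintro ⟨q, ⟨x, hq⟩, rfl⟩
    refine mem_weakAss_iff.2 ⟨x, ?_⟩
    rw [annEl_restrict (R' := R'), IsLocalization.minimalPrimes_comap S R']
    exact ⟨q, hq, rfl⟩

include S in
theorem ass_isLocalization {N : Type*} [AddCommGroup N] [Module R' N] [Module R N] [IsScalarTower R R' N] :
    FlatCA.ass R N = Ideal.comap (algebraMap R R') '' FlatCA.ass R' N := by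
  ext p
  constructor
  · rintro ⟨hp, x, hx⟩
    have hx' : p = (annEl R' x).comap (algebraMap R R') := hx.trans (annEl_restrict x)
    refine ⟨annEl R' x, mem_ass_iff.2 ⟨?_, x, rfl⟩, hx'.symm⟩
    have hd : Disjoint (S : Set R) (p : Set R) := by
      rw [Set.disjoint_left]
      intro s hs hsp
      refine hp.ne_top ?_
      have h1 : algebraMap R R' s ∈ annEl R' x := by rw [hx'] at hsp; exact hsp
      rw [hx', Ideal.eq_top_of_isUnit_mem _ h1 (IsLocalization.map_units R' ⟨s, hs⟩)]
      exact Ideal.comap_top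
    have := IsLocalization.isPrime_of_isPrime_disjoint S R' p hp hd
    rwa [hx', IsLocalization.map_comap S R'] at this
  · rintro ⟨q, ⟨hq, x, rfl⟩, rfl⟩
    exact ⟨Ideal.IsPrime.comap _, x, (annEl_restrict x).symm⟩

variable {M' : Type*} [AddCommGroup M'] [Module R M'] (f : M →ₗ[R] M') [IsLocalizedModule S f]

include f in
theorem exists_annEl_eq_of_regular (hS : ∀ s ∈ S, IsSMulRegular M s) (x : M') :
    ∃ m : M, annEl R x = annEl R m := by
  obtain ⟨⟨m, s⟩, hx⟩ := IsLocalizedModule.surj S f x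
  refine ⟨m, ?_⟩
  ext r
  rw [mem_annEl, mem_annEl]
  have hinj : Function.Injective f := fun a b hab => by
    obtain ⟨c, hc⟩ := IsLocalizedModule.exists_of_eq (S := S) hab
    exact hS c c.2 hc
  refine ⟨fun h => hinj ?_, fun h => ?_⟩
  · rw [map_smul, ← hx, map_zero, smul_comm, h, smul_zero]
  · have h2 : s • (r • x) = s • (0 : M') := by
      rw [smul_comm, hx, ← map_smul, h, map_zero, smul_zero]
    exact IsLocalizedModule.smul_injective f s h2

include f in
theorem weakAss_localizedModule_of_regular (hS : ∀ s ∈ S, IsSMulRegular M s) :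
    FlatCA.weakAss R M = FlatCA.weakAss R M' := by
  refine subset_antisymm ?_ ?_
  · refine weakAss_subset_of_injective f fun a b hab => ?_
    obtain ⟨c, hc⟩ := IsLocalizedModule.exists_of_eq (S := S) hab
    exact hS c c.2 hc
  · rintro p ⟨x, hx⟩
    obtain ⟨m, hm⟩ := exists_annEl_eq_of_regular S f hS x
    exact mem_weakAss_iff.2 ⟨m, hm ▸ hx⟩

include f in
theorem ass_localizedModule_of_regular (hS : ∀ s ∈ S, IsSMulRegular M s) :
    FlatCA.ass R M = FlatCA.ass R M' := by
  refine subset_antisymm ?_ ?_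
  · refine ass_subset_of_injective f fun a b hab => ?_
    obtain ⟨c, hc⟩ := IsLocalizedModule.exists_of_eq (S := S) hab
    exact hS c c.2 hc
  · rintro p ⟨hp, x, hx⟩
    obtain ⟨m, hm⟩ := exists_annEl_eq_of_regular S f hS x
    exact mem_ass_iff.2 ⟨hp, m, hx.trans hm⟩

include f in
theorem mem_ass_localizedModule {p : Ideal R} (h : p ∈ FlatCA.ass R M) (hd : Disjoint (S : Set R) (p : Set R)) :
    p ∈ FlatCA.ass R M' := by
  obtain ⟨hp, m, hm⟩ := h
  refine mem_ass_iff.2 ⟨hp, f m, ?_⟩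
  ext r
  rw [mem_annEl, ← map_smul, IsLocalizedModule.eq_zero_iff S f]
  refine ⟨fun hr => ⟨1, ?_⟩, fun ⟨c, hc⟩ => ?_⟩
  · rw [hm] at hr; rw [one_smul]; exact mem_annEl.1 hr
  · have hcr : (c : R) * r ∈ p := by
      rw [hm]; exact mem_annEl.2 (by rw [mul_smul]; exact hc)
    exact (hp.mem_or_mem hcr).resolve_left (Set.disjoint_left.1 hd c.2)

variable [Module R' M'] [IsScalarTower R R' M']

include f in
theorem mem_weakAss_iff_map {p : Ideal R} [hpr : p.IsPrime] (hd : Disjoint (S : Set R) (p : Set R)) :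
    p ∈ FlatCA.weakAss R M ↔ p.map (algebraMap R R') ∈ FlatCA.weakAss R' M' := by
  constructor
  · rintro ⟨m, hm⟩
    refine mem_weakAss_iff.2 ⟨f m, ⟨IsLocalization.isPrime_of_isPrime_disjoint S R' p hpr hd, ?_⟩, ?_⟩
    · intro x hx
      obtain ⟨r, s, rfl⟩ := IsLocalization.exists_mk'_eq S x
      rw [IsLocalization.mk'_mem_iff, IsLocalization.algebraMap_mem_map_algebraMap_iff S]
      have h1 : algebraMap R R' r • f m = 0 := by
        rw [← IsLocalization.mk'_spec' (M := S) R' r s, mul_smul, mem_annEl.1 hx, smul_zero]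
      rw [algebraMap_smul, ← map_smul, IsLocalizedModule.eq_zero_iff S f] at h1
      obtain ⟨c, hc⟩ := h1
      refine ⟨c, c.2, hm.1.2 (mem_annEl.2 ?_)⟩
      rw [mul_smul]; exact hc
    · rintro q ⟨hq, hle⟩ hqp
      have hqc : p ≤ q.comap (algebraMap R R') := by
        refine hm.2 ⟨Ideal.IsPrime.comap _, fun r hr => ?_⟩ ?_
        · exact hle (mem_annEl.2 (by rw [algebraMap_smul, ← map_smul, mem_annEl.1 hr, map_zero]))
        · calc q.comap (algebraMap R R') ≤ (p.map (algebraMap R R')).comap (algebraMap R R') :=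
              Ideal.comap_mono hqp
            _ = p := IsLocalization.comap_map_of_isPrime_disjoint S R' hpr hd
      exact Ideal.map_le_iff_le_comap.2 hqc
  · rintro ⟨x, hx⟩
    obtain ⟨⟨m, s⟩, hs⟩ := IsLocalizedModule.surj S f x
    have hcomap := IsLocalization.comap_map_of_isPrime_disjoint S R' hpr hd
    refine mem_weakAss_iff.2 ⟨m, ⟨hpr, fun r hr => ?_⟩, ?_⟩
    · rw [← hcomap]
      refine hx.1.2 (mem_annEl.2 ?_)
      have : s • (algebraMap R R' r • x) = s • (0 : M') := by
        rw [algebraMap_smul, smul_comm, hs, ← map_smul, mem_annEl.1 hr, map_zero, smul_zero]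
      exact IsLocalizedModule.smul_injective f s this
    · rintro q ⟨hq, hle⟩ hqp
      have hdq : Disjoint (S : Set R) (q : Set R) := hd.mono_right hqp
      have hq' := IsLocalization.isPrime_of_isPrime_disjoint S R' q hq hdq
      have h1 := hx.2 ⟨hq', fun y hy => ?_⟩ (Ideal.map_mono hqp)
      · rw [← hcomap, ← IsLocalization.comap_map_of_isPrime_disjoint S R' hq hdq]
        exact Ideal.comap_mono h1
      · obtain ⟨r, t, rfl⟩ := IsLocalization.exists_mk'_eq S y
        rw [IsLocalization.mk'_mem_iff, IsLocalization.algebraMap_mem_map_algebraMap_iff S]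
        have h2 : algebraMap R R' r • x = 0 := by
          rw [← IsLocalization.mk'_spec' (M := S) R' r t, mul_smul, mem_annEl.1 hy, smul_zero]
        have h3 : f (r • m) = 0 := by
          rw [algebraMap_smul] at h2; rw [map_smul, ← hs, smul_comm, h2, smul_zero]
        obtain ⟨c, hc⟩ := (IsLocalizedModule.eq_zero_iff S f).1 h3
        exact ⟨c, c.2, hle (mem_annEl.2 (by rw [mul_smul]; exact hc))⟩

end Localization

end Groth.Agent.WeakAss
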